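import Groth.Agent.CurveFF.Places
import Groth.Agent.S2344
import Mathlib.AlgebraicGeometry.Birational.RationalMap

/-!
Morphisms of normal curves into proper schemes are determined by the maps of function fields.
-/

set_option autoImplicit false
set_option linter.style.haveILetI false
set_option backward.isDefEq.respectTransparency false
universe u

open CategoryTheory CategoryTheory.Limits AlgebraicGeometry

namespace Groth.Agent.CurveBir

variable (k : Type u) [Field k]

theorem fromSpecStalk_over (X : Scheme.{u}) [X.Over (Spec (CommRingCat.of k))] (x : X) :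
    X.fromSpecStalk x ≫ (X ↘ Spec (CommRingCat.of k)) = Spec.map (CommRingCat.ofHom (Curv2.stalkMap k X x)) := by
  rw [CurveFF.fromSpecStalk_comp_str]
  congr 2
  refine RingHom.ext fun c => ?_
  simp [CurveFF.stStr, Curv2.stalkMap, WeilLib.secStr, Coh.toGlobal, Scheme.Hom.appTop, Scheme.Hom.appLE]

variable (X Y : Scheme.{u}) [X.Over (Spec (CommRingCat.of k))] [Y.Over (Spec (CommRingCat.of k))] [IsIntegral X] [IsIntegral Y]

/-- The morphism `Spec k(X) → Y` given by an embedding of function fields. -/
noncomputable def genHom (φ : Y.functionField →+* X.functionField) : Spec X.functionField ⟶ Y :=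
  Spec.map (CommRingCat.ofHom φ) ≫ Y.fromSpecStalk (genericPoint Y)

theorem genHom_over (φ : Y.functionField →+* X.functionField)
    (hφ : φ.comp (Curv2.stalkMap k Y (genericPoint Y)) = Curv2.stalkMap k X (genericPoint X)) :
    genHom X Y φ ≫ (Y ↘ Spec (CommRingCat.of k)) = X.fromSpecStalk (genericPoint X) ≫ (X ↘ Spec (CommRingCat.of k)) := by
  rw [genHom, Category.assoc, fromSpecStalk_over, fromSpecStalk_over, ← Spec.map_comp, ← hφ]
  rfl

omit [X.Over (Spec (CommRingCat.of k))] [Y.Over (Spec (CommRingCat.of k))] in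
theorem genHom_eq_of_stalkMap (u : X ⟶ Y) (hu : u.base (genericPoint X) = genericPoint Y) :
    genHom X Y (Y.presheaf.stalkSpecializes (specializes_of_eq hu) ≫ u.stalkMap (genericPoint X)).hom =
      X.fromSpecStalk (genericPoint X) ≫ u := by
  rw [genHom, CommRingCat.ofHom_hom, Spec.map_comp, Category.assoc,
    Scheme.SpecMap_stalkSpecializes_fromSpecStalk, Scheme.SpecMap_stalkMap_fromSpecStalk]

/-- A dominant rational map out of a normal curve into a proper scheme is a morphism. -/
theorem existsUnique_hom [LocallyOfFiniteType (X ↘ Spec (CommRingCat.of k))] [QuasiCompact (X ↘ Spec (CommRingCat.of k))] [IsSeparated (X ↘ Spec (CommRingCat.of k))]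
    (hX : ∀ x : X, IsClosed ({x} : Set X) → ringKrullDim (X.presheaf.stalk x) = 1) (hn : Pi1.IsNormalScheme X)
    [IsProper (Y ↘ Spec (CommRingCat.of k))] (ψ : Spec X.functionField ⟶ Y)
    (hψ : ψ ≫ (Y ↘ Spec (CommRingCat.of k)) = X.fromSpecStalk (genericPoint X) ≫ (X ↘ Spec (CommRingCat.of k))) :
    ∃! u : X ⟶ Y, u ≫ (Y ↘ Spec (CommRingCat.of k)) = X ↘ Spec (CommRingCat.of k) ∧ X.fromSpecStalk (genericPoint X) ≫ u = ψ := by
  haveI : IsDominant (X.fromSpecStalk (genericPoint X)) := ⟨by
    have hm : genericPoint X ∈ Set.range (X.fromSpecStalk (genericPoint X)) := by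
      rw [Scheme.range_fromSpecStalk]; exact specializes_rfl
    rw [DenseRange, dense_iff_closure_eq, Set.eq_univ_iff_forall]
    exact fun w => closure_mono (Set.singleton_subset_iff.2 hm) (by rw [genericPoint_closure]; trivial)⟩
  let p := Scheme.PartialMap.ofFromSpecStalk (X ↘ Spec (CommRingCat.of k)) (Y ↘ Spec (CommRingCat.of k)) ψ hψ
  have hp : p.hom ≫ (Y ↘ Spec (CommRingCat.of k)) = p.domain.ι ≫ (X ↘ Spec (CommRingCat.of k)) := Scheme.PartialMap.ofFromSpecStalk_comp _ _ _ _
  have hη : genericPoint X ∈ p.domain := Scheme.PartialMap.mem_domain_ofFromSpecStalk _ _ _ _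
  obtain ⟨u, ⟨hu, huS⟩, -⟩ := S2344.result k X Y hX hn p.domain p.dense_domain p.hom hp
  have hgen : X.fromSpecStalk (genericPoint X) ≫ u = ψ := by
    rw [← Scheme.PartialMap.fromSpecStalkOfMem_ofFromSpecStalk (X ↘ Spec (CommRingCat.of k)) (Y ↘ Spec (CommRingCat.of k)) ψ hψ]
    show _ = p.domain.fromSpecStalkOfMem _ hη ≫ p.hom
    rw [← hu, ← Category.assoc, Scheme.Opens.fromSpecStalkOfMem_ι]
  exact ⟨u, ⟨huS, hgen⟩, fun v ⟨hvS, hvg⟩ => ext_of_isDominant_of_isSeparated (Y ↘ Spec (CommRingCat.of k)) (hvS.trans huS.symm)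
    (X.fromSpecStalk (genericPoint X)) (hvg.trans hgen.symm)⟩

theorem hom_ext_generic [IsSeparated (Y ↘ Spec (CommRingCat.of k))] {u v : X ⟶ Y} (huS : u ≫ (Y ↘ Spec (CommRingCat.of k)) = X ↘ Spec (CommRingCat.of k))
    (hvS : v ≫ (Y ↘ Spec (CommRingCat.of k)) = X ↘ Spec (CommRingCat.of k))
    (h : X.fromSpecStalk (genericPoint X) ≫ u = X.fromSpecStalk (genericPoint X) ≫ v) : u = v := by
  haveI : IsDominant (X.fromSpecStalk (genericPoint X)) := ⟨by
    have hm : genericPoint X ∈ Set.range (X.fromSpecStalk (genericPoint X)) := by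
      rw [Scheme.range_fromSpecStalk]; exact specializes_rfl
    rw [DenseRange, dense_iff_closure_eq, Set.eq_univ_iff_forall]
    exact fun w => closure_mono (Set.singleton_subset_iff.2 hm) (by rw [genericPoint_closure]; trivial)⟩
  exact ext_of_isDominant_of_isSeparated (Y ↘ Spec (CommRingCat.of k)) (huS.trans hvS.symm) (X.fromSpecStalk (genericPoint X)) h

/-- A morphism with given generic morphism induces the given map of function fields. -/
theorem stalkMap_of_generic (φ : Y.functionField →+* X.functionField) {u : X ⟶ Y}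
    (hg : X.fromSpecStalk (genericPoint X) ≫ u = genHom X Y φ) :
    ∃ hu : u.base (genericPoint X) = genericPoint Y,
      (Y.presheaf.stalkSpecializes (specializes_of_eq hu) ≫ u.stalkMap (genericPoint X)).hom = φ := by
  have hu : u.base (genericPoint X) = genericPoint Y := by
    have h1 := congr($hg (IsLocalRing.closedPoint X.functionField))
    rw [Scheme.Hom.comp_apply, genHom, Scheme.Hom.comp_apply] at h1
    have h2 : Spec.map (CommRingCat.ofHom φ) (IsLocalRing.closedPoint X.functionField) =
        IsLocalRing.closedPoint Y.functionField := by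
      refine PrimeSpectrum.ext (Ideal.ext fun a => ?_)
      show φ a ∈ IsLocalRing.maximalIdeal X.functionField ↔ a ∈ IsLocalRing.maximalIdeal Y.functionField
      simp [IsLocalRing.mem_maximalIdeal, mem_nonunits_iff, isUnit_iff_ne_zero]
    erw [h2, Scheme.fromSpecStalk_closedPoint, Scheme.fromSpecStalk_closedPoint] at h1
    exact h1
  refine ⟨hu, ?_⟩
  have h := (genHom_eq_of_stalkMap X Y u hu).trans hg
  rw [genHom, genHom] at h
  exact congrArg CommRingCat.Hom.hom (Spec.map_injective ((cancel_mono _).1 h))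

/-- Normal proper curves with the same function field are isomorphic. -/
theorem exists_iso [IsProper (X ↘ Spec (CommRingCat.of k))] [IsProper (Y ↘ Spec (CommRingCat.of k))]
    (hX : ∀ x : X, IsClosed ({x} : Set X) → ringKrullDim (X.presheaf.stalk x) = 1) (hnX : Pi1.IsNormalScheme X)
    (hY : ∀ y : Y, IsClosed ({y} : Set Y) → ringKrullDim (Y.presheaf.stalk y) = 1) (hnY : Pi1.IsNormalScheme Y)
    (e : Y.functionField ≃+* X.functionField)
    (he : e.toRingHom.comp (Curv2.stalkMap k Y (genericPoint Y)) = Curv2.stalkMap k X (genericPoint X)) :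
    ∃ i : X ≅ Y, i.hom ≫ (Y ↘ Spec (CommRingCat.of k)) = X ↘ Spec (CommRingCat.of k) := by
  have he' : e.symm.toRingHom.comp (Curv2.stalkMap k X (genericPoint X)) = Curv2.stalkMap k Y (genericPoint Y) := by
    rw [← he, ← RingHom.comp_assoc]; simp
  obtain ⟨u, ⟨huS, hug⟩, -⟩ := existsUnique_hom k X Y hX hnX _ (genHom_over k X Y e.toRingHom he)
  obtain ⟨v, ⟨hvS, hvg⟩, -⟩ := existsUnique_hom k Y X hY hnY _ (genHom_over k Y X e.symm.toRingHom he')
  refine ⟨⟨u, v, ?_, ?_⟩, huS⟩
  · refine hom_ext_generic k X X (by rw [Category.assoc, hvS, huS]) (Category.id_comp _) ?_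
    rw [reassoc_of% hug, genHom, Category.assoc, hvg, genHom, ← Spec.map_comp_assoc, Category.comp_id,
      ← CommRingCat.ofHom_comp]
    simp
    exact Category.id_comp _
  · refine hom_ext_generic k Y Y (by rw [Category.assoc, huS, hvS]) (Category.id_comp _) ?_
    rw [reassoc_of% hvg, genHom, Category.assoc, hug, genHom, ← Spec.map_comp_assoc, Category.comp_id,
      ← CommRingCat.ofHom_comp]
    simp
    exact Category.id_comp _

end Groth.Agent.CurveBir
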